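import Mathlib

/-!
# Polynomial core of the functional equation `F(x + y F(x)) = F(x) F(y)`
-/

namespace Groth.Agent.Lib.Helper24.FunEqCore

open Polynomial

variable {k : Type} [Field k]

theorem core (P Q : k[X]) (hcop : IsCoprime P Q) (hQm : Q.Monic) (hQ0 : Q.eval 0 ≠ 0)
    (hPQ0 : P.eval 0 = Q.eval 0)
    (hid : ((P.map (algebraMap k (RatFunc k))).comp
          (C (algebraMap k[X] (RatFunc k) P / algebraMap k[X] (RatFunc k) Q) * X + C RatFunc.X)) *
        (C (algebraMap k[X] (RatFunc k) Q) * Q.map (algebraMap k (RatFunc k))) =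
      (C (algebraMap k[X] (RatFunc k) P) * P.map (algebraMap k (RatFunc k))) *
        ((Q.map (algebraMap k (RatFunc k))).comp
          (C (algebraMap k[X] (RatFunc k) P / algebraMap k[X] (RatFunc k) Q) * X + C RatFunc.X))) :
    ∃ a : k, P = C a * X + 1 ∧ Q = 1 := by
  set ι := algebraMap k[X] (RatFunc k) with hι
  set cK := algebraMap k (RatFunc k) with hcK
  set P' := P.map cK with hP'
  set Q' := Q.map cK with hQ'
  set Fx := ι P / ι Q with hFx
  set inner : (RatFunc k)[X] := C Fx * X + C RatFunc.X with hinner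
  have hιinj : Function.Injective ι := RatFunc.algebraMap_injective k
  have hP0 : P ≠ 0 := by
    rintro rfl
    rw [eval_zero] at hPQ0
    exact hQ0 hPQ0.symm
  have hQne : Q ≠ 0 := hQm.ne_zero
  have hιP : ι P ≠ 0 := fun h => hP0 (hιinj (by rw [h, map_zero]))
  have hιQ : ι Q ≠ 0 := fun h => hQne (hιinj (by rw [h, map_zero]))
  have hFx0 : Fx ≠ 0 := div_ne_zero hιP hιQ
  have hFxQ : Fx * ι Q = ι P := div_mul_cancel₀ _ hιQ
  have hinner_deg : inner.natDegree = 1 := natDegree_linear hFx0
  have hinner_lc : inner.leadingCoeff = Fx := leadingCoeff_linear hFx0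
  have hP'deg : P'.natDegree = P.natDegree := natDegree_map cK
  have hQ'deg : Q'.natDegree = Q.natDegree := natDegree_map cK
  have hP'lc : P'.leadingCoeff = cK P.leadingCoeff := leadingCoeff_map cK
  have hQ'lc : Q'.leadingCoeff = 1 := by
    rw [hQ', leadingCoeff_map, hQm.leadingCoeff, map_one]
  have hP'0 : P' ≠ 0 := by
    rw [hP', Ne, Polynomial.map_eq_zero]; exact hP0
  have hP'lc0 : P'.leadingCoeff ≠ 0 := leadingCoeff_ne_zero.mpr hP'0
  have hlcP : (P'.comp inner).leadingCoeff = P'.leadingCoeff * Fx ^ P.natDegree := by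
    rw [leadingCoeff_comp (by rw [hinner_deg]; exact one_ne_zero), hinner_lc, hP'deg]
  have hlcQ : (Q'.comp inner).leadingCoeff = Fx ^ Q.natDegree := by
    rw [leadingCoeff_comp (by rw [hinner_deg]; exact one_ne_zero), hinner_lc, hQ'deg, hQ'lc,
      one_mul]
  -- (g') leading coefficients
  have hg : Fx ^ P.natDegree * ι Q = ι P * Fx ^ Q.natDegree := by
    have := congrArg leadingCoeff hid
    rw [leadingCoeff_mul, leadingCoeff_mul, leadingCoeff_mul, leadingCoeff_mul, leadingCoeff_C,
      leadingCoeff_C, hlcP, hlcQ, hQ'lc, mul_one] at this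
    have h2 : P'.leadingCoeff * (Fx ^ P.natDegree * ι Q) =
        P'.leadingCoeff * (ι P * Fx ^ Q.natDegree) := by
      linear_combination this
    exact mul_left_cancel₀ hP'lc0 h2
  -- divisibility
  have hcop' : IsCoprime P' Q' := hcop.map (mapRingHom cK)
  have hunit : IsUnit (C (ι Q) : (RatFunc k)[X]) := isUnit_C.mpr hιQ.isUnit
  have hcop'' : IsCoprime P' (C (ι Q) * Q') :=
    (isCoprime_mul_unit_left_right hunit P' Q').mpr hcop'
  have hdvd : P' ∣ P'.comp inner := by
    apply hcop''.dvd_of_dvd_mul_right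
    rw [hid]
    exact ⟨C (ι P) * Q'.comp inner, by ring⟩
  obtain ⟨S, hS⟩ := hdvd
  have hcomp0 : P'.comp inner ≠ 0 := by
    intro h
    have := congrArg leadingCoeff h
    rw [hlcP, leadingCoeff_zero] at this
    exact (mul_ne_zero hP'lc0 (pow_ne_zero _ hFx0)) this
  have hS0 : S ≠ 0 := by
    rintro rfl
    rw [mul_zero] at hS
    exact hcomp0 hS
  have hSdeg : S.natDegree = 0 := by
    have := congrArg natDegree hS
    rw [natDegree_comp, hinner_deg, mul_one, natDegree_mul hP'0 hS0] at this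
    omega
  obtain ⟨s, rfl⟩ : ∃ s, S = C s := ⟨S.coeff 0, eq_C_of_natDegree_eq_zero hSdeg⟩
  have hs : s = Fx ^ P.natDegree := by
    have := congrArg leadingCoeff hS
    rw [hlcP, leadingCoeff_mul, leadingCoeff_C] at this
    exact (mul_left_cancel₀ hP'lc0 this).symm
  -- evaluate at 0
  have hii : ι P = cK (P.eval 0) * Fx ^ P.natDegree := by
    have := congrArg (eval 0) hS
    rw [eval_comp, eval_mul, eval_C, hs] at this
    have h1 : inner.eval 0 = RatFunc.X := by simp [hinner]
    rw [h1, hP', eval_map, eval_zero_map] at this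
    rw [← this, hι, ← RatFunc.aeval_X_left_eq_algebraMap, aeval_def]
  -- (E)
  have hE : P * Q ^ P.natDegree = C (P.eval 0) * P ^ P.natDegree := by
    apply hιinj
    rw [map_mul, map_mul, map_pow, map_pow]
    have h1 : ι (C (P.eval 0)) = cK (P.eval 0) := RatFunc.algebraMap_C _
    rw [h1]
    conv_lhs => rw [hii]
    rw [← hFxQ, mul_pow]
    ring
  rcases Nat.eq_zero_or_pos P.natDegree with hp | hp
  · -- P constant
    have hPc : P = C (P.coeff 0) := eq_C_of_natDegree_eq_zero hp
    rw [hp, pow_zero, one_mul] at hg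
    have h1 : ι Q ^ (Q.natDegree + 1) = ι P ^ (Q.natDegree + 1) := by
      have e1 : ι P ^ Q.natDegree = Fx ^ Q.natDegree * ι Q ^ Q.natDegree := by
        rw [← mul_pow, hFxQ]
      calc ι Q ^ (Q.natDegree + 1) = ι Q ^ Q.natDegree * ι Q := pow_succ _ _
        _ = ι Q ^ Q.natDegree * (ι P * Fx ^ Q.natDegree) := congrArg _ hg
        _ = (Fx ^ Q.natDegree * ι Q ^ Q.natDegree) * ι P := by ring
        _ = ι P ^ Q.natDegree * ι P := by rw [e1]
        _ = ι P ^ (Q.natDegree + 1) := (pow_succ _ _).symm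
    have h2 : Q ^ (Q.natDegree + 1) = P ^ (Q.natDegree + 1) := by
      apply hιinj; rw [map_pow, map_pow, h1]
    have h3 := congrArg natDegree h2
    rw [natDegree_pow, natDegree_pow, hp, mul_zero] at h3
    have hq : Q.natDegree = 0 := by
      rcases Nat.eq_zero_or_pos Q.natDegree with h | h
      · exact h
      · exfalso
        have : 0 < (Q.natDegree + 1) * Q.natDegree := Nat.mul_pos (Nat.succ_pos _) h
        omega
    have hQ1 : Q = 1 := hQm.natDegree_eq_zero.mp hq
    refine ⟨0, ?_, hQ1⟩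
    rw [hQ1, eval_one] at hPQ0
    rw [hPc, coeff_zero_eq_eval_zero, hPQ0]
    simp
  · -- degree ≥ 1
    have h1 : P * Q ^ P.natDegree = P * (C (P.eval 0) * P ^ (P.natDegree - 1)) := by
      rw [hE]
      have : P.natDegree = (P.natDegree - 1) + 1 := by omega
      conv_lhs => rw [this, pow_succ]
      ring
    have h2 : Q ^ P.natDegree = C (P.eval 0) * P ^ (P.natDegree - 1) := mul_left_cancel₀ hP0 h1
    have hp1 : P.natDegree = 1 := by
      by_contra hne
      have h3 : 1 ≤ P.natDegree - 1 := by omega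
      have hdvd : P ∣ Q ^ P.natDegree := by
        rw [h2]
        exact Dvd.dvd.mul_left (dvd_pow_self P (by omega)) _
      have hu : IsUnit P := (hcop.pow_right (n := P.natDegree)).isUnit_of_dvd' dvd_rfl hdvd
      have := natDegree_eq_zero_of_isUnit hu
      omega
    rw [hp1, pow_one, Nat.sub_self, pow_zero, mul_one] at h2
    have hq : Q.natDegree = 0 := by rw [h2, natDegree_C]
    have hQ1 : Q = 1 := hQm.natDegree_eq_zero.mp hq
    refine ⟨P.coeff 1, ?_, hQ1⟩
    have h4 := eq_X_add_C_of_natDegree_le_one (le_of_eq hp1)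
    rw [hQ1, eval_one] at hPQ0
    rw [coeff_zero_eq_eval_zero, hPQ0, map_one] at h4
    exact h4

end Groth.Agent.Lib.Helper24.FunEqCore
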