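import Mathlib

/-!
# Transport from `Frac k[X₀,X₁]` to `K(Y)` with `K = k(X)`
-/

namespace Groth.Agent.Lib.Helper24.FunEqTransport

open Polynomial

variable (k : Type) [Field k]

/-- `MvPolynomial (Fin 1) k → k(X)`. -/
noncomputable def θ : MvPolynomial (Fin 1) k →+* RatFunc k :=
  (algebraMap k[X] (RatFunc k)).comp (MvPolynomial.uniqueAlgEquiv k (Fin 1)).toRingEquiv.toRingHom

theorem θ_injective : Function.Injective (θ k) := by
  unfold θ
  exact (RatFunc.algebraMap_injective k).comp (MvPolynomial.uniqueAlgEquiv k (Fin 1)).injective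

theorem θ_X : θ k (MvPolynomial.X 0) = RatFunc.X := by
  simp [θ, RatFunc.algebraMap_X]

theorem θ_C (a : k) : θ k (MvPolynomial.C a) = algebraMap k (RatFunc k) a := by
  simp [θ, RatFunc.algebraMap_C]

/-- `k[X₀,X₁] → K[Y]`, `X₀ ↦ C X`, `X₁ ↦ Y`. -/
noncomputable def g : MvPolynomial (Fin 2) k →+* (RatFunc k)[X] :=
  (Polynomial.mapRingHom (θ k)).comp
    ((MvPolynomial.finSuccEquiv k 1).toRingEquiv.toRingHom.comp
      (MvPolynomial.renameEquiv k (Equiv.swap (0 : Fin 2) 1)).toRingEquiv.toRingHom)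

theorem g_injective : Function.Injective (g k) := by
  unfold g
  refine (Polynomial.map_injective _ (θ_injective k)).comp ?_
  exact (MvPolynomial.finSuccEquiv k 1).injective.comp
    (MvPolynomial.renameEquiv k (Equiv.swap (0 : Fin 2) 1)).injective

theorem g_X0 : g k (MvPolynomial.X 0) = C RatFunc.X := by
  have h : (MvPolynomial.X 1 : MvPolynomial (Fin 2) k) = MvPolynomial.X (Fin.succ 0) := rfl
  simp [g, h, MvPolynomial.finSuccEquiv_X_succ, θ_X]

theorem g_X1 : g k (MvPolynomial.X 1) = X := by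
  simp [g, MvPolynomial.finSuccEquiv_X_zero]

theorem g_C (a : k) : g k (MvPolynomial.C a) = C (algebraMap k (RatFunc k) a) := by
  have h1 : MvPolynomial.finSuccEquiv k 1 (MvPolynomial.C a) = Polynomial.C (MvPolynomial.C a) := by
    have := (MvPolynomial.finSuccEquiv k 1).commutes a
    simpa [MvPolynomial.algebraMap_eq, Polynomial.algebraMap_apply] using this
  simp [g, h1, θ_C]

end Groth.Agent.Lib.Helper24.FunEqTransport
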