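import Mathlib
import Groth.Agent.Lib.Helper24.FunEq.Transport
import Groth.Agent.Lib.Helper24.FunEq.Core

/-!
# `F(x + y F(x)) = F(x) F(y)` in `k(x,y)` forces `F = 1 + a X`
-/

namespace Groth.Agent.Lib.Helper24.FunEqMain

open Polynomial

variable (k : Type) [Field k]

theorem map_ratFunc_eval {L M : Type} [Field L] [Field M] (ψ : L →+* M) (f : k →+* L) (a : L)
    (F : RatFunc k) : ψ (RatFunc.eval f a F) = RatFunc.eval (ψ.comp f) (ψ a) F := by
  unfold RatFunc.eval
  rw [map_div₀, Polynomial.hom_eval₂, Polynomial.hom_eval₂]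

/-- evaluation of a `k`-polynomial at a point of `K[Y] ⊆ K(Y)`. -/
theorem eval₂_jM (R : k[X]) (T : (RatFunc k)[X]) :
    R.eval₂ ((algebraMap (RatFunc k)[X] (RatFunc (RatFunc k))).comp
        (C.comp (algebraMap k (RatFunc k)))) (algebraMap (RatFunc k)[X] (RatFunc (RatFunc k)) T) =
      algebraMap (RatFunc k)[X] (RatFunc (RatFunc k)) ((R.map (algebraMap k (RatFunc k))).comp T) := by
  rw [← Polynomial.hom_eval₂, Polynomial.comp, Polynomial.eval₂_map]

theorem comp_C_X (R : k[X]) :
    (R.map (algebraMap k (RatFunc k))).comp (C (RatFunc.X : RatFunc k)) =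
      C (algebraMap k[X] (RatFunc k) R) := by
  rw [comp_C, eval_map, ← RatFunc.aeval_X_left_eq_algebraMap, aeval_def]

theorem main (F : RatFunc k)
    (h0 : F.denom.eval 0 ≠ 0) (h1 : F.num.eval 0 = F.denom.eval 0)
    (hFE : RatFunc.eval (algebraMap k (FractionRing (MvPolynomial (Fin 2) k)))
        (algebraMap (MvPolynomial (Fin 2) k) (FractionRing (MvPolynomial (Fin 2) k)) (MvPolynomial.X 0) +
          algebraMap (MvPolynomial (Fin 2) k) (FractionRing (MvPolynomial (Fin 2) k)) (MvPolynomial.X 1) *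
            RatFunc.eval (algebraMap k (FractionRing (MvPolynomial (Fin 2) k)))
              (algebraMap (MvPolynomial (Fin 2) k) (FractionRing (MvPolynomial (Fin 2) k)) (MvPolynomial.X 0)) F) F =
      RatFunc.eval (algebraMap k (FractionRing (MvPolynomial (Fin 2) k)))
          (algebraMap (MvPolynomial (Fin 2) k) (FractionRing (MvPolynomial (Fin 2) k)) (MvPolynomial.X 0)) F *
        RatFunc.eval (algebraMap k (FractionRing (MvPolynomial (Fin 2) k)))
          (algebraMap (MvPolynomial (Fin 2) k) (FractionRing (MvPolynomial (Fin 2) k)) (MvPolynomial.X 1)) F) :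
    ∃ a : k, F = 1 + RatFunc.C a * RatFunc.X := by
  set jM := algebraMap (RatFunc k)[X] (RatFunc (RatFunc k)) with hjM
  have hjMinj : Function.Injective jM := RatFunc.algebraMap_injective (RatFunc k)
  set G : MvPolynomial (Fin 2) k →+* RatFunc (RatFunc k) := jM.comp (FunEqTransport.g k) with hG
  have hGinj : Function.Injective G := hjMinj.comp (FunEqTransport.g_injective k)
  set ψ : FractionRing (MvPolynomial (Fin 2) k) →+* RatFunc (RatFunc k) :=
    IsFractionRing.lift hGinj with hψ
  have hψalg : ∀ t, ψ (algebraMap (MvPolynomial (Fin 2) k) _ t) = G t :=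
    fun t => IsFractionRing.lift_algebraMap hGinj t
  set cK := algebraMap k (RatFunc k) with hcK
  set ι := algebraMap k[X] (RatFunc k) with hι
  have hf0 : ψ.comp (algebraMap k (FractionRing (MvPolynomial (Fin 2) k))) =
      jM.comp (C.comp cK) := by
    ext a
    simp only [RingHom.comp_apply]
    rw [IsScalarTower.algebraMap_apply k (MvPolynomial (Fin 2) k), hψalg, MvPolynomial.algebraMap_eq,
      hG, RingHom.comp_apply, FunEqTransport.g_C]
  have hx : ψ (algebraMap (MvPolynomial (Fin 2) k) _ (MvPolynomial.X 0)) = jM (C RatFunc.X) := by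
    rw [hψalg, hG, RingHom.comp_apply, FunEqTransport.g_X0]
  have hy : ψ (algebraMap (MvPolynomial (Fin 2) k) _ (MvPolynomial.X 1)) = jM X := by
    rw [hψalg, hG, RingHom.comp_apply, FunEqTransport.g_X1]
  have hFE' := congrArg ψ hFE
  rw [map_ratFunc_eval, map_mul, map_ratFunc_eval, map_ratFunc_eval, map_add, map_mul,
    map_ratFunc_eval, hf0, hx, hy] at hFE'
  -- abbreviations
  set P := F.num with hP
  set Q := F.denom with hQ
  set P' := P.map cK with hP'
  set Q' := Q.map cK with hQ'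
  have hQne : Q ≠ 0 := RatFunc.denom_ne_zero F
  have hιinj : Function.Injective ι := RatFunc.algebraMap_injective k
  have hιQ : ι Q ≠ 0 := fun h => hQne (hιinj (by rw [h, map_zero]))
  have hP0 : P ≠ 0 := by
    intro h
    rw [h, eval_zero] at h1
    exact h0 h1.symm
  have hιP : ι P ≠ 0 := fun h => hP0 (hιinj (by rw [h, map_zero]))
  set Fx := ι P / ι Q with hFx
  have hFx0 : Fx ≠ 0 := div_ne_zero hιP hιQ
  set inner : (RatFunc k)[X] := C Fx * X + C RatFunc.X with hinner
  -- the value F(x)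
  have hFx' : RatFunc.eval (jM.comp (C.comp cK)) (jM (C RatFunc.X)) F = jM (C Fx) := by
    unfold RatFunc.eval
    rw [eval₂_jM, eval₂_jM, comp_C_X, comp_C_X, hjM, RatFunc.algebraMap_C, RatFunc.algebraMap_C,
      RatFunc.algebraMap_C, hFx, map_div₀]
  have hu : jM (C RatFunc.X) + jM X * jM (C Fx) = jM inner := by
    rw [hinner, map_add, map_mul]; ring
  rw [hFx', hu] at hFE'
  unfold RatFunc.eval at hFE'
  rw [eval₂_jM, eval₂_jM, eval₂_jM, eval₂_jM, comp_X, comp_X] at hFE'
  -- nonvanishing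
  have hQ'0 : Q' ≠ 0 := by rw [hQ', Ne, Polynomial.map_eq_zero]; exact hQne
  have hinner_deg : inner.natDegree = 1 := natDegree_linear hFx0
  have hinner_lc : inner.leadingCoeff = Fx := leadingCoeff_linear hFx0
  have hQcomp0 : Q'.comp inner ≠ 0 := by
    intro h
    have := congrArg leadingCoeff h
    rw [leadingCoeff_comp (by rw [hinner_deg]; exact one_ne_zero), hinner_lc,
      leadingCoeff_zero] at this
    exact (mul_ne_zero (leadingCoeff_ne_zero.mpr hQ'0) (pow_ne_zero _ hFx0)) this
  have hb : jM (Q'.comp inner) ≠ 0 := fun h => hQcomp0 (hjMinj (by rw [h, map_zero]))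
  have hd : jM (C (ι Q)) ≠ 0 := fun h => (C_ne_zero.mpr hιQ) (hjMinj (by rw [h, map_zero]))
  have hf : jM Q' ≠ 0 := fun h => hQ'0 (hjMinj (by rw [h, map_zero]))
  rw [← mul_div_assoc, div_eq_div_iff hb hf] at hFE'
  have hid0 : (P'.comp inner) * Q' = (C Fx * P') * (Q'.comp inner) := by
    apply hjMinj
    rw [map_mul, map_mul, map_mul]
    exact hFE'
  have hQFx : ι Q * Fx = ι P := by rw [hFx, mul_div_cancel₀ _ hιQ]
  have hid : (P'.comp inner) * (C (ι Q) * Q') = (C (ι P) * P') * (Q'.comp inner) := by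
    calc (P'.comp inner) * (C (ι Q) * Q') = C (ι Q) * ((P'.comp inner) * Q') := by ring
      _ = C (ι Q) * ((C Fx * P') * (Q'.comp inner)) := by rw [hid0]
      _ = (C (ι Q * Fx) * P') * (Q'.comp inner) := by rw [C_mul]; ring
      _ = (C (ι P) * P') * (Q'.comp inner) := by rw [hQFx]
  obtain ⟨a, hPa, hQ1⟩ := FunEqCore.core P Q (RatFunc.isCoprime_num_denom F)
    (RatFunc.monic_denom F) h0 h1 hid
  refine ⟨a, ?_⟩
  rw [← RatFunc.num_div_denom F, ← hP, ← hQ, hPa, hQ1]
  simp [RatFunc.algebraMap_C, RatFunc.algebraMap_X]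
  ring

end Groth.Agent.Lib.Helper24.FunEqMain
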